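import Groth.Agent.SectionSmooth10.Algebra
import Groth.Agent.CAlgH.KindBasic
import Groth.Agent.CAlgH.KoszulChart
import Groth.Agent.CAlgH.KoszulDescentScheme
import Groth.Agent.Synt15.LCIPermanence
import Groth.Agent.SDiv28.RegImmKinds
import Groth.Prelude.Def_RegImm
import Mathlib.AlgebraicGeometry.Morphisms.Smooth

/-!
# Smoothness along a section and quasi-regular immersions
-/

set_option autoImplicit false
set_option linter.style.haveILetI false
set_option backward.isDefEq.respectTransparency false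

universe u

open CategoryTheory CategoryTheory.Limits AlgebraicGeometry

namespace Groth.Agent.SectionSmooth10

variable {X S Z : Scheme.{u}}

/-- Composition with an open immersion into a larger scheme. -/
theorem at_comp_openImmersion {κ : RegImm.Kind} (hκ : κ ≠ .regular) (i : Z ⟶ S) (j : S ⟶ X) [IsOpenImmersion j]
    {z : Z} (hi : RegImm.IsRegularImmersionAt κ i z) : RegImm.IsRegularImmersionAt κ (i ≫ j) z := by
  obtain ⟨⟨U, hU⟩, hz, hc, rs, hrs, hker⟩ := hi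
  let W := j ''ᵁ U
  have hW : IsAffineOpen W := hU.image_of_isOpenImmersion j
  haveI : IsIso (j.app W) := j.isIso_app W (j.image_le_opensRange U)
  have hpre : j ⁻¹ᵁ W = U := j.preimage_image_eq U
  refine ⟨⟨W, hW⟩, ⟨_, hz, rfl⟩, ?_, ?_⟩
  · show IsClosedImmersion ((i ≫ j) ∣_ W)
    rw [morphismRestrict_comp]
    have : IsClosedImmersion (i ∣_ (j ⁻¹ᵁ W)) := by rw [hpre]; exact hc
    haveI : IsIso (j ∣_ W) := by
      haveI : Surjective (j ∣_ W) := ⟨fun w => by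
        obtain ⟨x, hx, hxw⟩ := w.2
        exact ⟨⟨x, hpre.ge hx⟩, Subtype.ext ((morphismRestrict_base_coe j W _).trans hxw)⟩⟩
      exact (isIso_iff_isOpenImmersion_and_surjective _).2 ⟨inferInstance, inferInstance⟩
    infer_instance
  · have key : ∀ (U' : S.Opens) (ss : List Γ(S, U')), U' = j ⁻¹ᵁ W →
        κ.Seq Γ(S, U') ss → RingHom.ker (i.app U').hom = Ideal.ofList ss →
        ∃ ts : List Γ(X, W), κ.Seq Γ(X, W) ts ∧ RingHom.ker ((i ≫ j).app W).hom = Ideal.ofList ts := by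
      rintro U' ss rfl hss hk
      let e := (asIso (j.app W)).commRingCatIsoToRingEquiv
      have hseq := (CAlgH.KindBasic.seq_iff hκ ss).1 hss
      refine ⟨List.ofFn fun k => e.symm (ss.get k), (CAlgH.KindBasic.seq_ofFn_iff hκ _).2
        (hseq.map (φ := e.symm.toRingHom) (RingHom.Flat.of_bijective e.symm.bijective)), ?_⟩
      rw [Scheme.Hom.comp_app, CommRingCat.hom_comp, ← RingHom.comap_ker, hk]
      show Ideal.comap e.toRingHom _ = _
      have h1 : Ideal.ofList ss = Ideal.span (Set.range ss.get) := by rw [Set.range_list_get]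
      have h2 : Ideal.ofList (List.ofFn fun k => e.symm (ss.get k)) =
          Ideal.span (Set.range fun k => e.symm (ss.get k)) := congrArg Ideal.span (Set.ext fun x => List.mem_ofFn)
      refine Eq.trans ?_ h2.symm
      rw [h1]
      refine (Ideal.map_symm e).symm.trans ?_
      rw [Ideal.map_span, ← Set.range_comp]
      rfl
    exact key U rs hpre.symm hrs hker

/-- A chart can be shrunk to any smaller affine open. -/
theorem exists_gens {κ : RegImm.Kind} (hκ : κ ≠ .regular) (i : Z ⟶ X) {U U' : X.Opens} (hU : IsAffineOpen U)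
    [IsClosedImmersion (i ∣_ U)] (hU' : IsAffineOpen U') (e : U' ≤ U) {rs : List Γ(X, U)}
    (hrs : κ.Seq Γ(X, U) rs) (hker : RingHom.ker (i.app U).hom = Ideal.ofList rs) :
    IsClosedImmersion (i ∣_ U') ∧ ∃ (r : ℕ) (f : Fin r → Γ(X, U')),
      CAlgH.KindBasic.SeqF κ f ∧ RingHom.ker (i.app U').hom = Ideal.span (Set.range f) := by
  obtain ⟨h1, h2⟩ := CAlgH.KoszulChart.restrict i hU hU' e
  refine ⟨h1, rs.length, _, ((CAlgH.KindBasic.seq_iff hκ rs).1 hrs).map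
    (CAlgH.KoszulChart.flat_restrict hU hU' e), ?_⟩
  rw [h2, hker, show Ideal.ofList rs = Ideal.span (Set.range rs.get) by rw [Set.range_list_get],
    Ideal.map_span, ← Set.range_comp]
  rfl

/-- Regularity at a point can be tested after restricting the source to an open. -/
theorem at_of_precomp {κ : RegImm.Kind} (hκ : κ ≠ .regular) (i : Z ⟶ X) [IsImmersion i] (V : Z.Opens) (z : V)
    (hi : RegImm.IsRegularImmersionAt κ (V.ι ≫ i) z) : RegImm.IsRegularImmersionAt κ i (V.ι z) := by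
  obtain ⟨⟨U, hU⟩, hz, hc, rs, hrs, hker⟩ := hi
  obtain ⟨O, hO, hOV⟩ := i.isEmbedding.isInducing.isOpen_iff.1 V.2
  obtain ⟨a, haO, hza⟩ := hU.exists_basicOpen_le (V := ⟨O, hO⟩)
    ⟨i (V.ι z), show V.ι z ∈ i ⁻¹' O by rw [hOV]; exact z.2⟩ hz
  have hU' := hU.basicOpen a
  have : IsClosedImmersion ((V.ι ≫ i) ∣_ U) := hc
  obtain ⟨h1, r, f, hf, hk⟩ := exists_gens hκ (V.ι ≫ i) hU hU' (X.basicOpen_le a) hrs hker
  have hle : i ⁻¹ᵁ X.basicOpen a ≤ V := fun y hy => by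
    have : y ∈ i ⁻¹' O := haO hy
    rwa [hOV] at this
  haveI : IsIso (V.ι.app (i ⁻¹ᵁ X.basicOpen a)) :=
    V.ι.isIso_app _ (by rw [Scheme.Opens.opensRange_ι]; exact hle)
  refine ⟨⟨_, hU'⟩, hza, ?_, List.ofFn f, (CAlgH.KindBasic.seq_ofFn_iff hκ f).2 hf, ?_⟩
  · show IsClosedImmersion (i ∣_ X.basicOpen a)
    rw [morphismRestrict_comp] at h1
    haveI : IsIso (V.ι ∣_ (i ⁻¹ᵁ X.basicOpen a)) := by
      haveI : Surjective (V.ι ∣_ (i ⁻¹ᵁ X.basicOpen a)) := ⟨fun y =>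
        ⟨⟨⟨y.1, hle y.2⟩, y.2⟩, Subtype.ext (morphismRestrict_base_coe _ _ _)⟩⟩
      exact (isIso_iff_isOpenImmersion_and_surjective _).2 ⟨inferInstance, inferInstance⟩
    exact (MorphismProperty.cancel_left_of_respectsIso @IsClosedImmersion _ _).1 h1
  · rw [Scheme.Hom.comp_app, CommRingCat.hom_comp,
      RingHom.ker_comp_of_injective _ (ConcreteCategory.bijective_of_isIso _).1] at hk
    exact hk.trans (congrArg Ideal.span (Set.ext fun x => List.mem_ofFn.symm))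

/-- A point of a section which is a quasi-regular immersion there is a smooth point. -/
theorem mem_smoothLocus (f : X ⟶ S) [LocallyOfFinitePresentation f] (u : S ⟶ X) (hu : u ≫ f = 𝟙 S) (s : S)
    (hi : RegImm.IsRegularImmersionAt .quasi u s) : u s ∈ f.smoothLocus := by
  obtain ⟨⟨U, hU⟩, hs, hc, rs, hrs, hker⟩ := hi
  have hfu : ∀ y : S, f (u y) = y := fun y => by rw [← Scheme.Hom.comp_apply, hu]; rfl
  obtain ⟨_, ⟨V₀, hV₀, rfl⟩, hsV₀, -⟩ :=
    S.isBasis_affineOpens.exists_subset_of_mem_open (Set.mem_univ s) isOpen_univ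
  obtain ⟨_, ⟨U₁, hU₁, rfl⟩, hsU₁, hle₁⟩ := X.isBasis_affineOpens.exists_subset_of_mem_open
    (show u s ∈ ((U ⊓ f ⁻¹ᵁ V₀ : X.Opens) : Set X) from ⟨hs, show f (u s) ∈ V₀ by rw [hfu]; exact hsV₀⟩)
    (U ⊓ f ⁻¹ᵁ V₀).2
  have hU₁V₀ : U₁ ≤ f ⁻¹ᵁ V₀ := fun y hy => (hle₁ hy).2
  obtain ⟨a, hale, hsa⟩ := hV₀.exists_basicOpen_le (V := u ⁻¹ᵁ U₁) ⟨s, hsU₁⟩ hsV₀
  have hV₁ := hV₀.basicOpen a
  let U₂ := X.basicOpen (f.appLE V₀ U₁ hU₁V₀ a)
  have hU₂ : IsAffineOpen U₂ := hU₁.basicOpen _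
  have hU₂eq : U₂ = U₁ ⊓ f ⁻¹ᵁ S.basicOpen a := Scheme.basicOpen_appLE ..
  have hpre : u ⁻¹ᵁ U₂ = S.basicOpen a := by
    ext y
    show u y ∈ U₂ ↔ _
    rw [hU₂eq]
    exact ⟨fun h => hfu y ▸ h.2, fun h => ⟨hale h, show f (u y) ∈ S.basicOpen a by rw [hfu]; exact h⟩⟩
  haveI : IsClosedImmersion (u ∣_ U) := hc
  obtain ⟨-, r, g, hg, hk⟩ := exists_gens (κ := .quasi) (by decide) u hU hU₂
    ((hU₂eq.le.trans inf_le_left).trans fun y hy => (hle₁ hy).1) hrs hker
  have hle₂ : U₂ ≤ f ⁻¹ᵁ S.basicOpen a := hU₂eq.le.trans inf_le_right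
  let φ := f.appLE (S.basicOpen a) U₂ hle₂
  let ψ := u.appLE U₂ (S.basicOpen a) hpre.ge
  have hψφ : φ ≫ ψ = 𝟙 _ := by
    simp only [φ, ψ, Scheme.Hom.appLE_comp_appLE, hu]
    simp [Scheme.Hom.appLE]
    exact S.presheaf.map_id _
  letI : Algebra Γ(S, S.basicOpen a) Γ(X, U₂) := φ.hom.toAlgebra
  have : Algebra.FinitePresentation Γ(S, S.basicOpen a) Γ(X, U₂) :=
    f.finitePresentation_appLE hV₁ hU₂ hle₂
  let σ : Γ(X, U₂) →ₐ[Γ(S, S.basicOpen a)] Γ(S, S.basicOpen a) :=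
    { ψ.hom with commutes' := fun x => ConcreteCategory.congr_hom hψφ x }
  have hkσ : Ideal.span (Set.range g) = RingHom.ker σ.toRingHom := by
    rw [← hk]
    show RingHom.ker (u.app U₂).hom = RingHom.ker ψ.hom
    simp only [ψ, Scheme.Hom.appLE, CommRingCat.hom_comp]
    haveI : IsIso (S.presheaf.map (homOfLE hpre.ge).op) := by
      rw [Subsingleton.elim (homOfLE hpre.ge) (eqToHom hpre.symm)]; infer_instance
    rw [RingHom.ker_comp_of_injective _ (ConcreteCategory.bijective_of_isIso _).1]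
  have hmem : u s ∈ U₂ := show s ∈ u ⁻¹ᵁ U₂ by rw [hpre]; exact hsa
  refine Scheme.Hom.mem_smoothLocus.2 ((formallySmooth_stalkMap_iff (S.basicOpen a) hV₁ U₂ hU₂ hle₂ hmem).2 ?_)
  refine isSmoothAt_of_quasiRegular σ g hkσ hg _ fun x hx => ?_
  by_contra hxq
  have hb : u s ∈ X.basicOpen x := by
    show (⟨u s, hmem⟩ : U₂).1 ∈ X.basicOpen x
    rw [← hU₂.fromSpec_primeIdealOf ⟨u s, hmem⟩]
    show hU₂.primeIdealOf ⟨u s, hmem⟩ ∈ hU₂.fromSpec ⁻¹ᵁ X.basicOpen x
    rw [hU₂.fromSpec_preimage_basicOpen]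
    exact hxq
  have hx0 : u.app U₂ x = 0 := by
    rw [← RingHom.mem_ker, hk, hkσ]; exact hx
  have : s ∈ S.basicOpen (u.app U₂ x) := by rw [← Scheme.preimage_basicOpen]; exact hb
  rw [hx0, Scheme.basicOpen_zero] at this
  exact this

/-- Near a smooth point a section is a quasi-regular immersion. -/
theorem exists_quasi (f : X ⟶ S) [LocallyOfFinitePresentation f] (u : S ⟶ X) (hu : u ≫ f = 𝟙 S) (s : S)
    (hs : u s ∈ f.smoothLocus) :
    ∃ V : S.Opens, s ∈ V ∧ RegImm.IsRegularImmersion .quasi (V.ι ≫ u) := by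
  let W := f.smoothLocus
  have hfW : Smooth (W.ι ≫ f) := by
    rw [← Scheme.Hom.smoothLocus_eq_top_iff, ← Scheme.Hom.preimage_smoothLocus_eq, Scheme.Opens.ι_preimage_self]
  let V := u ⁻¹ᵁ W
  let p := (W.ι ≫ f) ∣_ V
  let j := ((W.ι ≫ f) ⁻¹ᵁ V).ι ≫ W.ι
  have hr : Set.range (V.ι ≫ u) ⊆ Set.range j := by
    rintro _ ⟨y, rfl⟩
    have hy : u (V.ι y) ∈ W := y.2
    refine ⟨⟨⟨u (V.ι y), hy⟩, ?_⟩, rfl⟩
    show u (f (u (V.ι y))) ∈ W
    rw [← Scheme.Hom.comp_apply u f, hu]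
    exact hy
  let w := IsOpenImmersion.lift j (V.ι ≫ u) hr
  have hw : w ≫ j = V.ι ≫ u := IsOpenImmersion.lift_fac _ _ _
  have hwp : w ≫ p = 𝟙 _ := by
    rw [← cancel_mono V.ι, Category.assoc, morphismRestrict_ι, Category.id_comp]
    show w ≫ ((W.ι ≫ f) ⁻¹ᵁ V).ι ≫ W.ι ≫ f = V.ι
    have := congrArg (· ≫ f) hw
    simp only [j, Category.assoc, hu, Category.comp_id] at this
    exact this
  haveI : IsImmersion w := by
    haveI : IsImmersion (w ≫ p) := by rw [hwp]; infer_instance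
    exact IsImmersion.of_comp w p
  haveI : Smooth p := IsZariskiLocalAtTarget.restrict hfW V
  have hq := (SDiv28.RegImmKinds.implications w).2.2 ((SDiv28.RegImmKinds.implications w).2.1
    (Synt15.isRegularImmersion_of_isKoszulPt w
      (Synt15.isKoszulPt_section p w hwp)))
  refine ⟨V, hs, hw ▸ ⟨inferInstance, fun y => at_comp_openImmersion (by decide) w j (hq.2 y)⟩⟩

end Groth.Agent.SectionSmooth10
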