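import Groth.Agent.SectionSmooth10.Scheme
import Groth.Agent.LimSmooth.Scheme
import Groth.Agent.H8Lim.BaseChange

/-!
# Differential smoothness and limits of schemes (EGA IV 17.12)
-/

set_option autoImplicit false
set_option linter.style.haveILetI false
set_option backward.isDefEq.respectTransparency.types false
set_option backward.isDefEq.respectTransparency false

universe u

open CategoryTheory CategoryTheory.Limits AlgebraicGeometry

namespace Groth.Agent.SectionSmooth10

/-- The points at which the second projection is smooth along the diagonal. -/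
noncomputable def diagLocus {X S : Scheme.{u}} (f : X ⟶ S) [LocallyOfFinitePresentation f] : X.Opens :=
  pullback.diagonal f ⁻¹ᵁ (pullback.snd f f).smoothLocus

theorem quasi_diagonal_iff {X S : Scheme.{u}} (f : X ⟶ S) [LocallyOfFinitePresentation f] :
    RegImm.IsRegularImmersion .quasi (pullback.diagonal f) ↔ diagLocus f = ⊤ := by
  have hu : pullback.diagonal f ≫ pullback.snd f f = 𝟙 X := pullback.diagonal_snd f
  constructor
  · intro h
    exact top_unique fun x _ => mem_smoothLocus (pullback.snd f f) _ hu x (h.2 x)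
  · intro h
    refine ⟨inferInstance, fun x => ?_⟩
    obtain ⟨V, hx, hV⟩ := exists_quasi (pullback.snd f f) _ hu x (h.ge (Set.mem_univ x))
    exact at_of_precomp (by decide) _ V ⟨x, hx⟩ (hV.2 ⟨x, hx⟩)

/-- Smooth points are preserved by base change. -/
theorem preimage_smoothLocus_le {X' X S' S : Scheme.{u}} {g' : X' ⟶ X} {f' : X' ⟶ S'} {f : X ⟶ S} {g : S' ⟶ S}
    (h : IsPullback g' f' f g) [LocallyOfFinitePresentation f] [LocallyOfFinitePresentation f']
    (W : X.Opens) [Smooth (W.ι ≫ f)] : g' ⁻¹ᵁ W ≤ f'.smoothLocus := by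
  haveI hs : Smooth ((g' ⁻¹ᵁ W).ι ≫ f') :=
    MorphismProperty.of_isPullback (P := @Smooth) ((isPullback_morphismRestrict g' W).paste_vert h) ‹_›
  intro x hx
  have h1 : (g' ⁻¹ᵁ W).ι ⁻¹ᵁ f'.smoothLocus = ⊤ := by
    rw [Scheme.Hom.preimage_smoothLocus_eq, Scheme.Hom.smoothLocus_eq_top]
  exact (h1.ge (Set.mem_univ (⟨x, hx⟩ : (g' ⁻¹ᵁ W : X'.Opens))) :)

/-- The square of second projections above a pullback square. -/
theorem isPullback_sndMap {X' X S' S : Scheme.{u}} {a : X' ⟶ X} {f' : X' ⟶ S'} {f : X ⟶ S} {b : S' ⟶ S}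
    (h : IsPullback a f' f b) :
    IsPullback (pullback.map f' f' f f a a b h.w.symm h.w.symm) (pullback.snd f' f') (pullback.snd f f) a := by
  have h1 := (IsPullback.of_hasPullback f' f').paste_horiz h
  refine IsPullback.of_right ?_ (pullback.lift_snd _ _ _) (IsPullback.of_hasPullback f f)
  rw [pullback.lift_fst, h.w]
  exact h1

theorem diagonal_map {X' X S' S : Scheme.{u}} {a : X' ⟶ X} {f' : X' ⟶ S'} {f : X ⟶ S} {b : S' ⟶ S}
    (h : IsPullback a f' f b) :
    pullback.diagonal f' ≫ pullback.map f' f' f f a a b h.w.symm h.w.symm = a ≫ pullback.diagonal f := by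
  apply pullback.hom_ext <;> simp

theorem smooth_smoothLocus_ι {X S : Scheme.{u}} (f : X ⟶ S) [LocallyOfFinitePresentation f] :
    Smooth (f.smoothLocus.ι ≫ f) := by
  rw [← Scheme.Hom.smoothLocus_eq_top_iff, ← Scheme.Hom.preimage_smoothLocus_eq, Scheme.Opens.ι_preimage_self]

theorem preimage_diagLocus_le {X' X S' S : Scheme.{u}} {a : X' ⟶ X} {f' : X' ⟶ S'} {f : X ⟶ S} {b : S' ⟶ S}
    (h : IsPullback a f' f b) [LocallyOfFinitePresentation f] [LocallyOfFinitePresentation f'] :
    a ⁻¹ᵁ diagLocus f ≤ diagLocus f' := by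
  intro x hx
  haveI := smooth_smoothLocus_ι (pullback.snd f f)
  refine preimage_smoothLocus_le (isPullback_sndMap h) (pullback.snd f f).smoothLocus ?_
  show (pullback.map f' f' f f a a b h.w.symm h.w.symm) (pullback.diagonal f' x) ∈ (pullback.snd f f).smoothLocus
  rw [← Scheme.Hom.comp_apply, diagonal_map h, Scheme.Hom.comp_apply]
  exact hx

variable {I : Type u} [SmallCategory I] [IsCofiltered I] {D : I ⥤ Scheme.{u}}
  [∀ (i j : I) (f : i ⟶ j), IsAffineHom (D.map f)] {c : Cone D} (hc : IsLimit c) {i₀ : I}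
  {X₀ : Scheme.{u}} (f₀ : X₀ ⟶ D.obj i₀) [LocallyOfFinitePresentation f₀]
  {X : Scheme.{u}} (f : X ⟶ c.pt) (qX : X ⟶ X₀) (hX : IsPullback qX f f₀ (c.π.app i₀))

include hc hX in
/-- Each point of the differentially smooth locus comes from a stage. -/
theorem exists_stage_of_mem [LocallyOfFinitePresentation f] (x : X) (hx : x ∈ diagLocus f) :
    ∃ k : Over i₀, ∃ _ : LocallyOfFinitePresentation (H8Lim.stageSnd D f₀ k),
      H8Lim.stageProj f₀ c qX f hX k x ∈ diagLocus (H8Lim.stageSnd D f₀ k) := by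
  haveI := smooth_smoothLocus_ι (pullback.snd f f)
  obtain ⟨j, φ, Xj, Yj, fj, gj, pY, pX, rX, hYj, hXj, hr1, hr2, V, hxV, hV⟩ :=
    LimSmooth.exists_nhd_stage (P := @Smooth) hc (g₀ := f₀) (g := f) (qY := qX) (f₀ := pullback.snd f₀ f₀)
      (f := pullback.snd f f) hX (isPullback_sndMap hX) LimSmooth.affineSpreads_smooth (fun ι _ => inferInstance)
      (pullback.diagonal f x) (O := (pullback.snd f f).smoothLocus) hx ‹_›
  let k : Over i₀ := Over.mk φ
  let fk := H8Lim.stageSnd D f₀ k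
  have hk : IsPullback (H8Lim.stageFst D f₀ k) fk f₀ (D.map φ) := H8Lim.isPullback_stage D f₀ k
  haveI hfk : LocallyOfFinitePresentation fk := MorphismProperty.of_isPullback hk ‹LocallyOfFinitePresentation f₀›
  haveI : LocallyOfFinitePresentation fj :=
    MorphismProperty.of_isPullback hXj (inferInstanceAs (LocallyOfFinitePresentation (pullback.snd f₀ f₀)))
  let e := hYj.lift (H8Lim.stageFst D f₀ k) fk hk.w
  let M₀ := pullback.map fk fk f₀ f₀ _ _ (D.map φ) hk.w.symm hk.w.symm
  have hM₀ : IsPullback M₀ (pullback.snd fk fk) (pullback.snd f₀ f₀) (H8Lim.stageFst D f₀ k) := isPullback_sndMap hk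
  have hwM : M₀ ≫ pullback.snd f₀ f₀ = (pullback.snd fk fk ≫ e) ≫ pY := by
    rw [Category.assoc, hYj.lift_fst, hM₀.w]
  let M := hXj.lift M₀ (pullback.snd fk fk ≫ e) hwM
  have hM : IsPullback M (pullback.snd fk fk) fj e :=
    IsPullback.of_right (by rw [hXj.lift_fst, hYj.lift_fst]; exact hM₀) (hXj.lift_snd _ _ _) hXj
  haveI := hV
  refine ⟨k, hfk, preimage_smoothLocus_le hM V ?_⟩
  show M (pullback.diagonal fk (H8Lim.stageProj f₀ c qX f hX k x)) ∈ V
  have key : H8Lim.stageProj f₀ c qX f hX k ≫ pullback.diagonal fk ≫ M = pullback.diagonal f ≫ rX := by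
    apply hXj.hom_ext
    · simp only [Category.assoc, hr1, M, hXj.lift_fst, M₀]
      rw [diagonal_map hk, H8Lim.stageProj_fst_assoc, diagonal_map hX]
    · simp only [Category.assoc, M, hXj.lift_snd]
      rw [pullback.diagonal_snd_assoc]
      apply hYj.hom_ext
      · simp only [Category.assoc, e, hYj.lift_fst, H8Lim.stageProj_fst]
        rw [← hXj.w, reassoc_of% hr1, (isPullback_sndMap hX).w, pullback.diagonal_snd_assoc]
      · simp only [Category.assoc, e, hYj.lift_snd]
        rw [hr2, pullback.diagonal_snd_assoc]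
        exact H8Lim.stageProj_snd _ _ _ _ _ _
  rw [← Scheme.Hom.comp_apply, ← Scheme.Hom.comp_apply, key, Scheme.Hom.comp_apply]
  exact hxV

include hc hX in
/-- Differential smoothness descends to a stage. -/
theorem exists_stage_quasi [CompactSpace X₀]
    (h : RegImm.IsRegularImmersion .quasi (pullback.diagonal f)) :
    ∃ k : Over i₀, RegImm.IsRegularImmersion .quasi (pullback.diagonal (H8Lim.stageSnd D f₀ k)) := by
  classical
  haveI : ∀ {i j : I} (f : i ⟶ j), IsAffineHom (D.map f) := fun f => inferInstance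
  haveI : LocallyOfFinitePresentation f := MorphismProperty.of_isPullback hX ‹LocallyOfFinitePresentation f₀›
  haveI : ∀ k, LocallyOfFinitePresentation (H8Lim.stageSnd D f₀ k) := fun k =>
    MorphismProperty.of_isPullback (H8Lim.isPullback_stage D f₀ k) ‹LocallyOfFinitePresentation f₀›
  let cX := H8Lim.stageCone f₀ c qX f hX
  let hcX : IsLimit cX := H8Lim.isLimitStageCone f₀ qX f hX hc
  haveI : IsAffineHom qX := by
    haveI := isAffineHom_π_app D c hc i₀
    exact MorphismProperty.of_isPullback hX.flip ‹_›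
  haveI : CompactSpace X := QuasiCompact.compactSpace_of_compactSpace qX
  have htop := (quasi_diagonal_iff f).1 h
  have hcov : ∀ x : X, ∃ k : Over i₀, cX.π.app k x ∈ diagLocus (H8Lim.stageSnd D f₀ k) := fun x => by
    obtain ⟨k, _, hk⟩ := exists_stage_of_mem hc f₀ f qX hX x (htop.ge (Set.mem_univ x))
    exact ⟨k, hk⟩
  choose k hk using hcov
  obtain ⟨t, ht⟩ := isCompact_univ.elim_finite_subcover
    (fun x => ((cX.π.app (k x) ⁻¹ᵁ diagLocus (H8Lim.stageSnd D f₀ (k x)) : X.Opens) : Set X))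
    (fun x => (cX.π.app (k x) ⁻¹ᵁ diagLocus (H8Lim.stageSnd D f₀ (k x))).2) fun x _ => Set.mem_iUnion.mpr ⟨x, hk x⟩
  obtain ⟨l, hl⟩ := IsCofiltered.inf_objs_exists (t.image k)
  have hl' : ∀ x ∈ t, cX.π.app (k x) ⁻¹ᵁ diagLocus (H8Lim.stageSnd D f₀ (k x)) ≤
      cX.π.app l ⁻¹ᵁ diagLocus (H8Lim.stageSnd D f₀ l) := fun x hx y hy => by
    obtain ⟨ψ⟩ := hl (Finset.mem_image_of_mem k hx)
    refine preimage_diagLocus_le (H8Lim.isPullback_stageMap D f₀ ψ) ?_
    show ((H8Lim.stage D f₀).map ψ) (cX.π.app l y) ∈ diagLocus (H8Lim.stageSnd D f₀ (k x))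
    rw [← Scheme.Hom.comp_apply, cX.w ψ]
    exact hy
  have hU : cX.π.app l ⁻¹ᵁ diagLocus (H8Lim.stageSnd D f₀ l) = ⊤ := top_unique fun y _ => by
    obtain ⟨x, hx, hy⟩ := Set.mem_iUnion₂.1 (ht (Set.mem_univ y))
    exact hl' x hx hy
  obtain ⟨m, ψ, hm⟩ := exists_map_eq_top (H8Lim.stage D f₀) cX hcX _ hU
  exact ⟨m, (quasi_diagonal_iff _).2 (top_unique (hm.ge.trans (preimage_diagLocus_le (H8Lim.isPullback_stageMap D f₀ ψ))))⟩

end Groth.Agent.SectionSmooth10
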