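import Mathlib.RingTheory.Filtration
import Mathlib.RingTheory.MvPolynomial.Ideal
import Mathlib.RingTheory.Adjoin.FG
import Mathlib.Algebra.MvPolynomial.Eval

/-!
# A Krull intersection lemma along a section, over any base ring
-/

set_option autoImplicit false
set_option linter.style.haveILetI false

universe u

namespace Groth.Agent.SectionSmooth10

open MvPolynomial

variable {R : Type u} [CommRing R] {σ : Type*}

theorem mem_idealOfVars_iff (p : MvPolynomial σ R) :
    p ∈ idealOfVars σ R ↔ constantCoeff p = 0 := by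
  rw [← pow_one (idealOfVars σ R), mem_pow_idealOfVars_iff', constantCoeff_eq]
  refine ⟨fun h => h 0 (by simp), fun h x hx => ?_⟩
  obtain rfl : x = 0 := (Finsupp.degree_eq_zero_iff x).1 (Nat.lt_one_iff.1 hx)
  exact h

theorem mem_pow_map_iff {R₀ : Type u} [CommRing R₀] (φ : R₀ →+* R) (hφ : Function.Injective φ)
    (k : ℕ) (p : MvPolynomial σ R₀) :
    map φ p ∈ idealOfVars σ R ^ k ↔ p ∈ idealOfVars σ R₀ ^ k := by
  simp only [mem_pow_idealOfVars_iff', coeff_map, map_eq_zero_iff φ hφ]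

theorem map_pow_le {R₀ : Type u} [CommRing R₀] (φ : R₀ →+* R) (k : ℕ) :
    (idealOfVars σ R₀ ^ k).map (map φ) ≤ idealOfVars σ R ^ k :=
  Ideal.map_le_iff_le_comap.2 fun p hp => by
    rw [Ideal.mem_comap, mem_pow_idealOfVars_iff']
    intro x hx
    rw [coeff_map, (mem_pow_idealOfVars_iff' k p).1 hp x hx, map_zero]

/-- Approximation by polynomials in `F`, modulo `H` and powers of the ideal of variables. -/
theorem exists_approx {n r : ℕ} (F : Fin r → MvPolynomial (Fin n) R)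
    (hF : ∀ l, F l ∈ idealOfVars (Fin n) R) (H : Ideal (MvPolynomial (Fin n) R))
    (hlin : ∀ j, ∃ a : Fin r → R,
      X j - ∑ l, C (a l) * F l ∈ H ⊔ idealOfVars (Fin n) R ^ 2)
    (N : ℕ) (z : MvPolynomial (Fin n) R) :
    ∃ p : MvPolynomial (Fin r) R, z - aeval F p ∈ H ⊔ idealOfVars (Fin n) R ^ N := by
  classical
  set M := idealOfVars (Fin n) R with hM
  set V := idealOfVars (Fin r) R
  have hev : ∀ j, ∀ p ∈ V ^ j, aeval F p ∈ M ^ j := by
    intro j p hp
    have h1 : V ≤ M.comap (aeval F).toRingHom := Ideal.span_le.2 (by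
      rintro _ ⟨i, rfl⟩
      show aeval F (X i) ∈ M
      rw [aeval_X]; exact hF i)
    exact Ideal.le_comap_pow (aeval F).toRingHom j (Ideal.pow_right_mono h1 j hp)
  have hlin' : ∀ b ∈ M, ∃ p ∈ V, b - aeval F p ∈ H ⊔ M ^ 2 := by
    intro b hb
    obtain ⟨c, rfl⟩ := Ideal.mem_span_range_iff_exists_fun.1 (show b ∈ Ideal.span (Set.range X) from hb)
    choose a ha using hlin
    refine ⟨∑ j, C (constantCoeff (c j)) * ∑ l, C (a j l) * X l, Ideal.sum_mem _ fun j _ =>
      Ideal.mul_mem_left _ _ (Ideal.sum_mem _ fun l _ => Ideal.mul_mem_left _ _ (Ideal.subset_span ⟨l, rfl⟩)), ?_⟩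
    rw [map_sum, ← Finset.sum_sub_distrib]
    refine Ideal.sum_mem _ fun j _ => ?_
    have e : aeval F (C (constantCoeff (c j)) * ∑ l, C (a j l) * X l) =
        C (constantCoeff (c j)) * ∑ l, C (a j l) * F l := by simp [algebraMap_eq]
    rw [e, show c j * X j - C (constantCoeff (c j)) * ∑ l, C (a j l) * F l =
      (c j - C (constantCoeff (c j))) * X j + C (constantCoeff (c j)) * (X j - ∑ l, C (a j l) * F l) by ring]
    refine Ideal.add_mem _ (Submodule.mem_sup_right ?_) (Ideal.mul_mem_left _ _ (ha j))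
    rw [pow_two]
    exact Ideal.mul_mem_mul ((mem_idealOfVars_iff _).2 (by simp)) (Ideal.subset_span ⟨j, rfl⟩)
  have hmulM : ∀ k, ∀ x ∈ H ⊔ M ^ k, ∀ b ∈ M, x * b ∈ H ⊔ M ^ (k + 1) := by
    intro k x hx b hb
    obtain ⟨y, hy, w, hw, rfl⟩ := Submodule.mem_sup.1 hx
    rw [add_mul, pow_succ]
    exact Submodule.add_mem_sup (Ideal.mul_mem_right _ _ hy) (Ideal.mul_mem_mul hw hb)
  have hmulM' : ∀ k, ∀ x ∈ M ^ k, ∀ b ∈ H ⊔ M ^ 2, x * b ∈ H ⊔ M ^ (k + 2) := by
    intro k x hx b hb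
    obtain ⟨y, hy, w, hw, rfl⟩ := Submodule.mem_sup.1 hb
    rw [mul_add, pow_add]
    exact Submodule.add_mem_sup (Ideal.mul_mem_left _ _ hy) (Ideal.mul_mem_mul hx hw)
  have hpow : ∀ j, ∀ x ∈ M ^ j, ∃ p ∈ V ^ j, x - aeval F p ∈ H ⊔ M ^ (j + 1) := by
    intro j
    induction j with
    | zero =>
      intro x _
      refine ⟨C (constantCoeff x), by simp, Submodule.mem_sup_right ?_⟩
      rw [zero_add, pow_one, hM, mem_idealOfVars_iff]
      simp [algebraMap_eq]
    | succ j ih =>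
      intro x hx
      rw [pow_succ] at hx
      refine Submodule.mul_induction_on hx (fun a ha b hb => ?_) (fun a b ha hb => ?_)
      · obtain ⟨pa, hpa, ha'⟩ := ih a ha
        obtain ⟨pb, hpb, hb'⟩ := hlin' b hb
        refine ⟨pa * pb, by rw [pow_succ]; exact Ideal.mul_mem_mul hpa hpb, ?_⟩
        rw [map_mul, show a * b - aeval F pa * aeval F pb = (a - aeval F pa) * b + aeval F pa * (b - aeval F pb) by ring]
        exact Ideal.add_mem _ (hmulM _ _ ha' _ hb) (hmulM' _ _ (hev j pa hpa) _ hb')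
      · obtain ⟨pa, hpa, ha'⟩ := ha
        obtain ⟨pb, hpb, hb'⟩ := hb
        exact ⟨pa + pb, Ideal.add_mem _ hpa hpb, by
          rw [map_add, add_sub_add_comm]; exact Ideal.add_mem _ ha' hb'⟩
  induction N with
  | zero => exact ⟨0, by simp⟩
  | succ N ih =>
    obtain ⟨p, hp⟩ := ih
    obtain ⟨y, hy, w, hw, e⟩ := Submodule.mem_sup.1 hp
    obtain ⟨p', -, hp'⟩ := hpow N w hw
    refine ⟨p + p', ?_⟩
    rw [map_add, ← sub_sub, ← e, add_sub_assoc]
    exact Ideal.add_mem _ (Submodule.mem_sup_left hy) hp'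

/-- If the monomials in `π ∘ F` are independent modulo the powers of `I`, then an element killed by `π` is, up to a unit at the origin, in the ideal generated by `h`. -/
theorem exists_one_add_mul_mem {n r s : ℕ} {A : Type*} [CommRing A] [Algebra R A]
    (π : MvPolynomial (Fin n) R →ₐ[R] A) (I : Ideal A) (hI : ∀ j, π (X j) ∈ I)
    (F : Fin r → MvPolynomial (Fin n) R) (hF : ∀ l, F l ∈ idealOfVars (Fin n) R)
    (hker : ∀ (N : ℕ) (p : MvPolynomial (Fin r) R), aeval (fun l => π (F l)) p ∈ I ^ N →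
      p ∈ idealOfVars (Fin r) R ^ N)
    (h : Fin s → MvPolynomial (Fin n) R) (hh : ∀ k, π (h k) = 0)
    (a : Fin n → Fin r → R) (c : Fin n → Fin s → R)
    (hlin : ∀ j, X j - ∑ l, C (a j l) * F l - ∑ k, C (c j k) * h k ∈ idealOfVars (Fin n) R ^ 2)
    (g : MvPolynomial (Fin n) R) (hg : π g = 0) :
    ∃ v ∈ idealOfVars (Fin n) R, (1 + v) * g ∈ Ideal.span (Set.range h) := by
  classical
  let T : Finset R := g.coeffs ∪ Finset.univ.biUnion (fun l => (F l).coeffs) ∪
    Finset.univ.biUnion (fun k => (h k).coeffs) ∪ Finset.univ.biUnion (fun j => Finset.univ.image (a j)) ∪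
    Finset.univ.biUnion (fun j => Finset.univ.image (c j))
  let R₀ : Subalgebra ℤ R := Algebra.adjoin ℤ (T : Set R)
  haveI : IsNoetherianRing R₀ := isNoetherianRing_of_fg (Subalgebra.fg_adjoin_finset T)
  let φ : R₀ →+* R := R₀.val.toRingHom
  have hφ : Function.Injective φ := Subtype.val_injective
  have hT : ∀ t ∈ T, t ∈ R₀ := fun t ht => Algebra.subset_adjoin ht
  have hlift : ∀ p : MvPolynomial (Fin n) R, (∀ t ∈ p.coeffs, t ∈ T) → ∃ p₀, map φ p₀ = p := fun p hp =>
    RingHom.mem_range.1 (mem_range_map_iff_coeffs_subset.2 fun t ht => ⟨⟨t, hT t (hp t ht)⟩, rfl⟩)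
  obtain ⟨g₀, hg₀⟩ := hlift g fun t ht => by simp [T, ht]
  choose F₀ hF₀ using fun l => hlift (F l) fun t ht => by
    simp only [T, Finset.mem_union, Finset.mem_biUnion, Finset.mem_univ, true_and]
    exact Or.inl (Or.inl (Or.inl (Or.inr ⟨l, ht⟩)))
  choose h₀ hh₀ using fun k => hlift (h k) fun t ht => by
    simp only [T, Finset.mem_union, Finset.mem_biUnion, Finset.mem_univ, true_and]
    exact Or.inl (Or.inl (Or.inr ⟨k, ht⟩))
  let a₀ : Fin n → Fin r → R₀ := fun j l => ⟨a j l, hT _ (by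
    simp only [T, Finset.mem_union, Finset.mem_biUnion, Finset.mem_image, Finset.mem_univ, true_and]
    exact Or.inl (Or.inr ⟨j, l, rfl⟩))⟩
  let c₀ : Fin n → Fin s → R₀ := fun j k => ⟨c j k, hT _ (by
    simp only [T, Finset.mem_union, Finset.mem_biUnion, Finset.mem_image, Finset.mem_univ, true_and]
    exact Or.inr ⟨j, k, rfl⟩)⟩
  set M₀ := idealOfVars (Fin n) R₀
  let H₀ := Ideal.span (Set.range h₀)
  have hF₀M : ∀ l, F₀ l ∈ M₀ := fun l => by
    rw [← pow_one M₀, ← mem_pow_map_iff φ hφ, hF₀, pow_one]; exact hF l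
  have hlin₀ : ∀ j, ∃ a' : Fin r → R₀, X j - ∑ l, C (a' l) * F₀ l ∈ H₀ ⊔ M₀ ^ 2 := by
    intro j
    refine ⟨a₀ j, ?_⟩
    have h1 : X j - ∑ l, C (a₀ j l) * F₀ l - ∑ k, C (c₀ j k) * h₀ k ∈ M₀ ^ 2 := by
      rw [← mem_pow_map_iff φ hφ]
      simp only [map_sub, map_sum, map_mul, map_X, map_C, hF₀, hh₀]
      exact hlin j
    have := Submodule.add_mem_sup (Ideal.sum_mem H₀ fun k (_ : k ∈ Finset.univ) =>
      Ideal.mul_mem_left _ (C (c₀ j k)) (Ideal.subset_span ⟨k, rfl⟩)) h1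
    simpa using this
  let π₀ : MvPolynomial (Fin n) R₀ →+* A := π.toRingHom.comp (map φ)
  have hπH : H₀ ≤ RingHom.ker π₀ := Ideal.span_le.2 (by
    rintro _ ⟨k, rfl⟩
    show π (map φ (h₀ k)) = 0
    rw [hh₀, hh])
  have hMI : (idealOfVars (Fin n) R).map π.toRingHom ≤ I := by
    rw [idealOfVars, Ideal.map_span, Ideal.span_le]
    rintro _ ⟨_, ⟨j, rfl⟩, rfl⟩
    exact hI j
  let q := Ideal.Quotient.mk H₀
  have hgN : ∀ N, q g₀ ∈ M₀.map q ^ N := by
    intro N
    obtain ⟨p, hp⟩ := exists_approx F₀ hF₀M H₀ hlin₀ N g₀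
    have hpV : p ∈ idealOfVars (Fin r) R₀ ^ N := by
      rw [← mem_pow_map_iff φ hφ]
      refine hker N _ ?_
      obtain ⟨y, hy, w, hw, e⟩ := Submodule.mem_sup.1 hp
      have h1 : π₀ w ∈ I ^ N := by
        have : map φ w ∈ idealOfVars (Fin n) R ^ N := map_pow_le φ N (Ideal.mem_map_of_mem _ hw)
        have := Ideal.mem_map_of_mem π.toRingHom this
        rw [Ideal.map_pow] at this
        exact Ideal.pow_right_mono hMI N this
      have h2 : π₀ (g₀ - aeval F₀ p) = π₀ w := by rw [← e, map_add, hπH hy, zero_add]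
      rw [map_sub, show π₀ g₀ = 0 from by show π (map φ g₀) = 0; rw [hg₀, hg], zero_sub] at h2
      have h3 : π₀ (aeval F₀ p) = aeval (fun l => π (F l)) (map φ p) := by
        have : π₀.comp (aeval F₀).toRingHom =
            ((aeval fun l => π (F l)) : MvPolynomial (Fin r) R →ₐ[R] A).toRingHom.comp (map φ) := by
          refine ringHom_ext (fun x => ?_) (fun l => ?_)
          · simp [π₀, φ, algebraMap_eq]
          · simp [π₀, hF₀]
        exact RingHom.congr_fun this p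
      rw [← h3]
      simpa [← h2] using h1
    have h4 : aeval F₀ p ∈ M₀ ^ N := by
      have h1 : idealOfVars (Fin r) R₀ ≤ M₀.comap (aeval F₀).toRingHom := Ideal.span_le.2 (by
        rintro _ ⟨i, rfl⟩
        show aeval F₀ (X i) ∈ M₀
        rw [aeval_X]; exact hF₀M i)
      exact Ideal.le_comap_pow (aeval F₀).toRingHom N (Ideal.pow_right_mono h1 N hpV)
    have h5 : g₀ ∈ H₀ ⊔ M₀ ^ N := by simpa using Ideal.add_mem _ hp (Submodule.mem_sup_right h4)
    obtain ⟨y, hy, w, hw, rfl⟩ := Submodule.mem_sup.1 h5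
    rw [map_add, show q y = 0 from Ideal.Quotient.eq_zero_iff_mem.2 hy, zero_add]
    have hpw : ∀ K : ℕ, ∀ w ∈ M₀ ^ K, q w ∈ M₀.map q ^ K := fun K w hw =>
      Ideal.le_comap_pow q K (Ideal.pow_right_mono Ideal.le_comap_map K hw)
    exact hpw N w hw
  haveI : IsNoetherianRing (MvPolynomial (Fin n) R₀) := isNoetherianRing
  haveI : IsNoetherianRing (MvPolynomial (Fin n) R₀ ⧸ H₀) := isNoetherianRing_of_surjective _ _ (Ideal.Quotient.mk H₀) Ideal.Quotient.mk_surjective
  obtain ⟨⟨w, hw⟩, hwg⟩ := ((M₀.map q).mem_iInf_smul_pow_eq_bot_iff (q g₀)).1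
    (Submodule.mem_iInf _ |>.2 fun N => by simpa using hgN N)
  obtain ⟨v, hv, rfl⟩ := (Ideal.mem_map_iff_of_surjective q Ideal.Quotient.mk_surjective).1 hw
  refine ⟨-map φ v, neg_mem (by
    rw [← pow_one (idealOfVars (Fin n) R), mem_pow_map_iff φ hφ, pow_one]; exact hv), ?_⟩
  have h6 : (1 - v) * g₀ ∈ H₀ := by
    rw [← Ideal.Quotient.eq_zero_iff_mem]
    change q ((1 - v) * g₀) = 0
    rw [map_mul, map_sub, map_one, sub_mul, one_mul, sub_eq_zero]
    exact hwg.symm
  have h7 := Ideal.mem_map_of_mem (map φ) h6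
  have h8 : H₀.map (map φ) = Ideal.span (Set.range h) := by
    rw [Ideal.map_span, ← Set.range_comp]; congr 2; funext k; exact hh₀ k
  simpa [h8, hg₀, sub_eq_add_neg] using h7

end Groth.Agent.SectionSmooth10
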