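import Groth.Prelude.Def_CAlgX
import Groth.Agent.SectionSmooth10.Krull
import Mathlib.RingTheory.Smooth.Local
import Mathlib.RingTheory.Smooth.Locus
import Mathlib.RingTheory.Etale.Kaehler
import Mathlib.RingTheory.Kaehler.Polynomial
import Mathlib.RingTheory.Localization.Ideal

/-!
# A quasi-regular section of a finitely presented algebra lies in the smooth locus
-/

set_option autoImplicit false
set_option linter.style.haveILetI false
set_option linter.unusedSimpArgs false
set_option backward.isDefEq.respectTransparency false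

universe u

namespace Groth.Agent.SectionSmooth10

open MvPolynomial TensorProduct KaehlerDifferential IsLocalRing

variable {R A : Type u} [CommRing R] [CommRing A] [Algebra R A]

/-- Quasi-regular generators of the kernel of a retraction have independent monomials. -/
theorem mem_pow_of_aeval_mem {r : ℕ} (σ : A →ₐ[R] R) (f : Fin r → A)
    (hf : Ideal.span (Set.range f) = RingHom.ker σ.toRingHom) (hq : CAlgX.IsQuasiRegular f)
    (N : ℕ) (p : MvPolynomial (Fin r) R) (hp : aeval f p ∈ RingHom.ker σ.toRingHom ^ N) :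
    p ∈ idealOfVars (Fin r) R ^ N := by
  classical
  set V := idealOfVars (Fin r) R
  have hev : ∀ j, ∀ p ∈ V ^ j, aeval f p ∈ RingHom.ker σ.toRingHom ^ j := by
    intro j p hp
    have h1 : V ≤ (RingHom.ker σ.toRingHom).comap (aeval f).toRingHom := Ideal.span_le.2 (by
      rintro _ ⟨i, rfl⟩
      show aeval f (X i) ∈ RingHom.ker σ.toRingHom
      rw [aeval_X, ← hf]; exact Ideal.subset_span ⟨i, rfl⟩)
    exact Ideal.le_comap_pow (aeval f).toRingHom j (Ideal.pow_right_mono h1 j hp)
  induction N with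
  | zero => simp
  | succ N ih =>
    have hpj := ih (Ideal.pow_le_pow_right (Nat.le_succ N) hp)
    rw [mem_pow_idealOfVars_iff'] at hpj
    have hrest : p - homogeneousComponent N p ∈ V ^ (N + 1) := by
      rw [mem_pow_idealOfVars_iff']
      intro x hx
      rw [coeff_sub, coeff_homogeneousComponent]
      rcases eq_or_lt_of_le (Nat.le_of_lt_succ hx) with h | h
      · rw [if_pos h, sub_self]
      · rw [if_neg h.ne, sub_zero]; exact hpj x h
    have h1 : aeval f (homogeneousComponent N p) ∈ RingHom.ker σ.toRingHom ^ (N + 1) := by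
      have := Ideal.sub_mem _ hp (hev _ _ hrest)
      rwa [← map_sub, sub_sub_cancel] at this
    rw [aeval_def, ← eval_map, ← hf] at h1
    have h2 := hq N _ ((homogeneousComponent_isHomogeneous N p).map (algebraMap R A)) h1
    have h0 : homogeneousComponent N p = 0 := MvPolynomial.ext _ _ fun d => by
      have := h2 d
      rw [coeff_map, hf] at this
      rw [coeff_zero]
      simpa using (RingHom.mem_ker.1 this)
    rwa [h0, sub_zero] at hrest

theorem mem_idealOfVars_sq {n : ℕ} (p : MvPolynomial (Fin n) R) (h0 : constantCoeff p = 0)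
    (h1 : ∀ i, constantCoeff (pderiv i p) = 0) : p ∈ idealOfVars (Fin n) R ^ 2 := by
  rw [mem_pow_idealOfVars_iff']
  intro x hx
  rcases Nat.lt_succ_iff.1 hx |>.eq_or_lt with h | h
  · obtain ⟨i, rfl⟩ := (Finsupp.sum_eq_one_iff x).1 h
    have := h1 i
    rw [constantCoeff_eq, coeff_pderiv] at this
    simpa using this
  · obtain rfl : x = 0 := (Finsupp.degree_eq_zero_iff x).1 (Nat.lt_one_iff.1 h)
    simpa [constantCoeff_eq] using h0

theorem pderiv_sq_eq_zero {n : ℕ} {p : MvPolynomial (Fin n) R} (hp : p ∈ idealOfVars (Fin n) R ^ 2)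
    (i : Fin n) : constantCoeff (pderiv i p) = 0 := by
  rw [pow_two] at hp
  refine Submodule.mul_induction_on hp (fun a ha b hb => ?_) fun a b ha hb => by simp [ha, hb]
  simp [(mem_idealOfVars_iff a).1 ha, (mem_idealOfVars_iff b).1 hb]

/-- The presentation attached to a quasi-regular section: relations `h` whose linear parts form an
idempotent matrix, generating all relations up to units at the origin. -/
theorem exists_relations [Algebra.FinitePresentation R A] {r : ℕ} (σ : A →ₐ[R] R) (f : Fin r → A)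
    (hf : Ideal.span (Set.range f) = RingHom.ker σ.toRingHom) (hq : CAlgX.IsQuasiRegular f) :
    ∃ (n : ℕ) (π : MvPolynomial (Fin n) R →ₐ[R] A), Function.Surjective π ∧
      (RingHom.ker π.toRingHom).FG ∧ (∀ j, σ (π (X j)) = 0) ∧
      ∃ (E : Matrix (Fin n) (Fin n) R) (h : Fin n → MvPolynomial (Fin n) R),
        (∀ k, π (h k) = 0) ∧ (∀ k, h k = ∑ i, C (E i k) * h i) ∧
        (∀ k i, constantCoeff (pderiv i (h k)) = E i k) ∧
        ∀ g, π g = 0 → ∃ v ∈ idealOfVars (Fin n) R, (1 + v) * g ∈ Ideal.span (Set.range h) := by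
  classical
  obtain ⟨n, π₁, hπ₁, -⟩ := ‹Algebra.FinitePresentation R A›.out
  let π : MvPolynomial (Fin n) R →ₐ[R] A := aeval fun j => π₁ (X j) - algebraMap R A (σ (π₁ (X j)))
  have hσπ : ∀ j, σ (π (X j)) = 0 := fun j => by simp [π]
  have hπ : Function.Surjective π := by
    rw [← AlgHom.range_eq_top, eq_top_iff, ← (AlgHom.range_eq_top π₁).2 hπ₁, ← Algebra.map_top,
      ← MvPolynomial.adjoin_range_X, AlgHom.map_adjoin, Algebra.adjoin_le_iff]
    rintro _ ⟨_, ⟨j, rfl⟩, rfl⟩
    exact ⟨X j + C (σ (π₁ (X j))), by simp [π, algebraMap_eq]⟩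
  have hfg : (RingHom.ker π.toRingHom).FG := Algebra.FinitePresentation.ker_fG_of_surjective π hπ
  set I := RingHom.ker σ.toRingHom
  have hI : ∀ j, π (X j) ∈ I := hσπ
  have hker := mem_pow_of_aeval_mem σ f hf hq
  set M := idealOfVars (Fin n) R
  have hconst : ∀ p, σ (π p) = constantCoeff p := fun p => by
    have : σ.comp π = (aeval fun _ : Fin n => (0 : R)) := algHom_ext fun j => by simp [hσπ]
    rw [← AlgHom.comp_apply, this]
    simp [aeval_zero']
  choose F hπF using fun l => hπ (f l)
  have hfI : ∀ l, f l ∈ I := fun l => hf ▸ Ideal.subset_span ⟨l, rfl⟩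
  have hFM : ∀ l, F l ∈ M := fun l => by
    rw [mem_idealOfVars_iff, ← hconst, hπF]; exact hfI l
  have hMI : M.map π.toRingHom = I := by
    refine le_antisymm (Ideal.map_le_iff_le_comap.2 fun p hp => ?_) fun a ha => ?_
    · show σ (π p) = 0
      rw [hconst]; exact (mem_idealOfVars_iff p).1 hp
    · obtain ⟨p, rfl⟩ := hπ a
      exact Ideal.mem_map_of_mem _ ((mem_idealOfVars_iff p).2 (by rw [← hconst]; exact ha))
  have hlinI : ∀ j, ∃ (a : Fin r → R) (G : MvPolynomial (Fin n) R), G ∈ M ^ 2 ∧
      π (X j) - ∑ l, algebraMap R A (a l) * f l = π G := by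
    intro j
    obtain ⟨c, hc⟩ := Ideal.mem_span_range_iff_exists_fun.1 (hf.ge (hI j))
    have : π (X j) - ∑ l, algebraMap R A (σ (c l)) * f l ∈ (M ^ 2).map π.toRingHom := by
      rw [Ideal.map_pow, hMI, ← hc, ← Finset.sum_sub_distrib, pow_two]
      refine Ideal.sum_mem _ fun l _ => ?_
      rw [← sub_mul]
      exact Ideal.mul_mem_mul (by show σ _ = 0; simp) (hfI l)
    obtain ⟨G, hG, e⟩ := (Ideal.mem_map_iff_of_surjective π.toRingHom hπ).1 this
    exact ⟨_, G, hG, e.symm⟩
  choose a G hG ha using hlinI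
  let φ : Fin n → MvPolynomial (Fin n) R := fun j => X j - ∑ l, C (a j l) * F l - G j
  have hφ : ∀ j, π (φ j) = 0 := fun j => by
    simp [φ, map_sum, hπF, ← ha j, algebraMap_eq]
  let Fm : Matrix (Fin n) (Fin r) R := fun i l => constantCoeff (pderiv i (F l))
  let am : Matrix (Fin r) (Fin n) R := fun l j => a j l
  have haF : am * Fm = 1 := by
    refine Matrix.ext fun l' l => ?_
    let P : MvPolynomial (Fin r) R := X l - ∑ l', C ((am * Fm) l' l) * X l'
    have hPV : P ∈ idealOfVars (Fin r) R ^ 2 := by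
      refine hker 2 P ?_
      have h1 : F l - ∑ i, C (Fm i l) * X i ∈ M ^ 2 := by
        refine mem_idealOfVars_sq _ ?_ fun i => ?_
        · simp [(mem_idealOfVars_iff _).1 (hFM l)]
        · simp [Fm, pderiv_X, Pi.single_apply, apply_ite]
      have h2 : ∀ i, π (X i) - ∑ l, algebraMap R A (a i l) * f l ∈ I ^ 2 := fun i => by
        rw [ha, ← hMI, ← Ideal.map_pow]; exact Ideal.mem_map_of_mem _ (hG i)
      have h3 : f l - ∑ i, algebraMap R A (Fm i l) * π (X i) ∈ I ^ 2 := by
        rw [← hMI, ← Ideal.map_pow]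
        convert Ideal.mem_map_of_mem π.toRingHom h1 using 1
        simp [map_sum, hπF, algebraMap_eq]
      have h4 := Ideal.add_mem _ h3 (Ideal.sum_mem _ fun i (_ : i ∈ Finset.univ) =>
        Ideal.mul_mem_left (I ^ 2) (algebraMap R A (Fm i l)) (h2 i))
      convert h4 using 1
      simp only [P, map_sub, map_sum, map_mul, aeval_X, aeval_C, mul_sub, Finset.sum_sub_distrib,
        Finset.mul_sum, Matrix.mul_apply, Finset.sum_mul]
      rw [Finset.sum_comm]
      simp only [am, ← mul_assoc, mul_comm (algebraMap R A (Fm _ l))]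
      simp only [mul_right_comm]
      abel
    have := pderiv_sq_eq_zero hPV l'
    simp only [P, map_sub, map_sum, Derivation.leibniz, pderiv_X, pderiv_C, smul_zero, add_zero,
      smul_eq_mul, Pi.single_apply, mul_ite, mul_one, mul_zero, apply_ite, constantCoeff_C, map_one,
      map_zero, map_mul, Finset.sum_ite_eq', Finset.sum_ite_eq, Finset.mem_univ, if_true] at this
    rw [Matrix.one_apply]
    rw [← sub_eq_zero.1 this]
    exact if_congr eq_comm rfl rfl
  let E : Matrix (Fin n) (Fin n) R := 1 - Fm * am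
  have hEE : E * E = E := by
    simp only [E, Matrix.sub_mul, Matrix.mul_sub, Matrix.one_mul, Matrix.mul_one]
    rw [Matrix.mul_assoc Fm am, ← Matrix.mul_assoc am Fm am, haF, Matrix.one_mul]
    abel
  have hE : ∀ i k, E i k = (if i = k then 1 else 0) - ∑ l, a k l * constantCoeff (pderiv i (F l)) :=
    fun i k => by
    simp only [E, Matrix.sub_apply, Matrix.mul_apply, Matrix.one_apply]
    exact congrArg _ (Finset.sum_congr rfl fun l _ => mul_comm _ _)
  have hLφ : ∀ k i, constantCoeff (pderiv i (φ k)) = E i k := fun k i => by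
    rcases eq_or_ne i k with rfl | hne
    · simp [φ, hE, pderiv_sq_eq_zero (hG i)]
    · simp [φ, hE, pderiv_sq_eq_zero (hG k), hne, hne.symm, pderiv_X_of_ne]
  let h : Fin n → MvPolynomial (Fin n) R := fun k => ∑ i, C (E i k) * φ i
  have hLh : ∀ k i, constantCoeff (pderiv i (h k)) = E i k := fun k i => by
    conv_rhs => rw [← hEE]
    simp [h, Matrix.mul_apply, hLφ, mul_comm]
  refine ⟨n, π, hπ, hfg, hσπ, E, h, fun k => by simp [h, map_sum, hφ], fun k => ?_, hLh, fun g hg => ?_⟩
  · conv_lhs => simp only [h]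
    rw [show ∑ i, C (E i k) * φ i = ∑ i, C ((E * E) i k) * φ i by rw [hEE]]
    simp only [h, Finset.mul_sum, Matrix.mul_apply, map_sum, Finset.sum_mul]
    rw [Finset.sum_comm]
    exact Finset.sum_congr rfl fun i _ => Finset.sum_congr rfl fun j _ => by rw [map_mul]; ring
  · refine exists_one_add_mul_mem π I hI F hFM (fun N p hp => hker N p (by rw [show (fun l => π (F l)) = f from funext hπF] at hp; exact hp)) h
      (fun k => by simp [h, map_sum, hφ]) a (fun j => Pi.single j 1) (fun j => ?_) g hg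
    refine mem_idealOfVars_sq _ ?_ fun i => ?_
    · have h0 : ∀ k, constantCoeff (h k) = 0 := fun k => by
        rw [← hconst, show π (h k) = 0 by simp [h, map_sum, hφ], map_zero]
      simp [fun l => (mem_idealOfVars_iff _).1 (hFM l), h0]
    · rcases eq_or_ne i j with rfl | hne
      · simp [hLh, hE, Pi.single_apply, Finset.sum_ite_eq', apply_ite]
      · simp [hLh, hE, hne, Pi.single_apply, Finset.sum_ite_eq', pderiv_X_of_ne hne.symm, apply_ite]

theorem one_tmul_eq_zero_iff {T κ M : Type u} [CommRing T] [CommRing κ] [Algebra T κ] [AddCommGroup M] [Module T M]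
    (hκ : Function.Surjective (algebraMap T κ)) (x : M) :
    (1 : κ) ⊗ₜ[T] x = 0 ↔ x ∈ RingHom.ker (algebraMap T κ) • (⊤ : Submodule T M) := by
  let m := LinearMap.ker (Algebra.linearMap T κ)
  let e₀ : (T ⧸ m) ≃ₗ[T] κ := (Algebra.linearMap T κ).quotKerEquivOfSurjective hκ
  let e : (T ⧸ m) ⊗[T] M ≃ₗ[T] κ ⊗[T] M := LinearEquiv.rTensor M e₀
  have he : e (Submodule.Quotient.mk 1 ⊗ₜ[T] x) = (1 : κ) ⊗ₜ[T] x :=
    congrArg (· ⊗ₜ[T] x) (map_one (algebraMap T κ))
  rw [← he, e.map_eq_zero_iff, ← (quotTensorEquivQuotSMul M m).map_eq_zero_iff]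
  erw [quotTensorEquivQuotSMul_mk_tmul]
  rw [one_smul, Submodule.Quotient.mk_eq_zero]
  rfl

/-- Jacobian criterion for a quotient of a formally smooth local algebra. -/
theorem formallySmooth_quotient {T : Type u} [CommRing T] [Algebra R T] [IsLocalRing T]
    [Algebra.FormallySmooth R T] [Module.Free T Ω[T⁄R]] [Module.Finite T Ω[T⁄R]] (I : Ideal T)
    (hI : I ≤ maximalIdeal T) (hIfg : I.FG)
    (hcrit : ∀ x ∈ I, (1 : ResidueField T) ⊗ₜ[T] D R T x = 0 → x ∈ maximalIdeal T * I) :
    Algebra.FormallySmooth R (T ⧸ I) := by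
  let κ := ResidueField T
  have hκ : Function.Surjective (algebraMap T κ) := residue_surjective
  have : Nontrivial (T ⧸ I) := Ideal.Quotient.nontrivial_iff.2 fun e => (maximalIdeal.isMaximal T).ne_top (top_unique (e ▸ hI))
  have : IsLocalRing (T ⧸ I) := .of_surjective' (Ideal.Quotient.mk I) Ideal.Quotient.mk_surjective
  let : Algebra (T ⧸ I) κ := (Ideal.Quotient.factor hI).toAlgebra
  have : IsScalarTower T (T ⧸ I) κ := .of_algebraMap_eq fun _ => rfl
  have h₂ : (RingHom.ker (algebraMap T (T ⧸ I))).FG := by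
    rw [Ideal.Quotient.algebraMap_eq, Ideal.mk_ker]; exact hIfg
  have h₃ : maximalIdeal (T ⧸ I) ≤ RingHom.ker (algebraMap (T ⧸ I) κ) := by
    intro x hx
    obtain ⟨x, rfl⟩ := Ideal.Quotient.mk_surjective x
    rw [RingHom.mem_ker]
    exact Ideal.Quotient.eq_zero_iff_mem.2 ((mem_maximalIdeal _).2 fun hu => hx (hu.map _))
  rw [Algebra.FormallySmooth.iff_injective_cotangentComplexBaseChange T κ Ideal.Quotient.mk_surjective h₂ h₃]
  let I' : Ideal T := RingHom.ker (algebraMap T (T ⧸ I))
  have hI' : I' = I := Ideal.mk_ker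
  rw [injective_iff_map_eq_zero]
  intro z hz
  obtain ⟨i, rfl⟩ := TensorProduct.mk_surjective (R := T) (M := I') (S := κ) hκ z
  simp only [TensorProduct.mk_apply] at hz ⊢
  have himg : cotangentComplexBaseChange R (T ⧸ I) T κ ((1 : κ) ⊗ₜ[T] i) = (1 : κ) ⊗ₜ[T] D R T i := by
    rw [cotangentComplexBaseChange_tmul, one_smul]
    rfl
  rw [himg] at hz
  rw [one_tmul_eq_zero_iff hκ, Submodule.mem_smul_top_iff, smul_eq_mul]
  exact (iff_of_eq (congrArg₂ (fun A B : Ideal T => (i : T) ∈ A * B) (ker_residue (R := T)) hI')).2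
    (hcrit i (hI'.le i.2) hz)

theorem sum_mul_swap {T : Type*} [CommRing T] {n : ℕ} (c : Fin n → T) (w : Fin n → Fin n → T) (v : Fin n → T)
    (hv : ∀ k, v k = ∑ i, w i k * v i) : ∑ k, c k * v k = ∑ l, (∑ k, c k * w l k) * v l := by
  rw [Finset.sum_congr rfl fun k _ => congrArg (c k * ·) (hv k)]
  simp only [Finset.mul_sum, Finset.sum_mul, mul_assoc]
  exact Finset.sum_comm

/-- A point on a section cut out by a quasi-regular sequence is a smooth point. -/
theorem isSmoothAt_of_quasiRegular [Algebra.FinitePresentation R A] {r : ℕ} (σ : A →ₐ[R] R) (f : Fin r → A)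
    (hf : Ideal.span (Set.range f) = RingHom.ker σ.toRingHom) (hq : CAlgX.IsQuasiRegular f)
    (q : Ideal A) [q.IsPrime] (hle : RingHom.ker σ.toRingHom ≤ q) : Algebra.IsSmoothAt R q := by
  classical
  obtain ⟨n, π, hπ, hfg, hσπ, E, h, hπh, hEh, hLh, hrel⟩ := exists_relations σ f hf hq
  let P := MvPolynomial (Fin n) R
  let J₀ : Ideal P := RingHom.ker π.toRingHom
  let q₀ : Ideal P := q.comap π.toRingHom
  let T := Localization.AtPrime q₀
  have : Algebra.FormallyEtale P T := .of_isLocalization q₀.primeCompl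
  have : Algebra.FormallySmooth R T := .comp R P T
  let b : Module.Basis (Fin n) T Ω[T⁄R] :=
    ((mvPolynomialBasis R (Fin n)).baseChange T).map (tensorKaehlerEquivOfFormallyEtale R P T)
  have : Module.Free T Ω[T⁄R] := .of_basis b
  have : Module.Finite T Ω[T⁄R] := .of_basis b
  let J : Ideal T := J₀.map (algebraMap P T)
  have hJfg : J.FG := hfg.map _
  have hJ₀ : J₀ ≤ q₀ := fun x hx => by
    show π x ∈ q
    rw [show π x = 0 from hx]; exact q.zero_mem
  have hJm : J ≤ maximalIdeal T := by
    rw [← Localization.AtPrime.map_eq_maximalIdeal]; exact Ideal.map_mono hJ₀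
  -- `T ⧸ J` is the local ring of `A` at `q`
  let e₁ : (P ⧸ J₀) ≃ₐ[R] A := Ideal.quotientKerAlgEquivOfSurjective hπ
  have hMc : (Algebra.algebraMapSubmonoid (P ⧸ J₀) q₀.primeCompl).map e₁.toRingEquiv.toMonoidHom = q.primeCompl := by
    ext a
    constructor
    · rintro ⟨_, ⟨p, hp, rfl⟩, rfl⟩
      exact hp
    · intro ha
      obtain ⟨p, rfl⟩ := hπ a
      exact ⟨_, ⟨p, ha, rfl⟩, rfl⟩
  let e : (T ⧸ J) ≃+* Localization.AtPrime q :=
    IsLocalization.ringEquivOfRingEquiv (T ⧸ J) (Localization.AtPrime q) e₁.toRingEquiv hMc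
  have hst : ∀ r : R, algebraMap R (T ⧸ J) r = algebraMap (P ⧸ J₀) (T ⧸ J) (algebraMap R (P ⧸ J₀) r) := fun r => by
    show Ideal.Quotient.mk J (algebraMap R T r) = Ideal.Quotient.mk J (algebraMap P T (algebraMap R P r))
    rw [← IsScalarTower.algebraMap_apply]
  have he : ∀ r : R, e (algebraMap R (T ⧸ J) r) = algebraMap R (Localization.AtPrime q) r := by
    intro r
    rw [hst, IsScalarTower.algebraMap_apply R A (Localization.AtPrime q),
      IsLocalization.ringEquivOfRingEquiv_eq]
    exact congrArg _ (e₁.commutes r)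
  suffices hs : Algebra.FormallySmooth R (T ⧸ J) from
    Algebra.FormallySmooth.of_equiv (A := T ⧸ J) (AlgEquiv.ofRingEquiv (f := e) he)
  -- the relations generate `J`
  have hvars : idealOfVars (Fin n) R ≤ q₀ := Ideal.span_le.2 (by
    rintro _ ⟨j, rfl⟩
    exact hle (hσπ j))
  have hJspan : J = Ideal.span (Set.range fun k => algebraMap P T (h k)) := by
    refine le_antisymm (Ideal.map_le_iff_le_comap.2 fun g hg => ?_) (Ideal.span_le.2 ?_)
    · obtain ⟨v, hv, hvg⟩ := hrel g hg
      have hu : IsUnit (algebraMap P T (1 + v)) := IsLocalization.map_units T (⟨1 + v, fun hmem => by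
        refine (inferInstance : q₀.IsPrime).ne_top ((Ideal.eq_top_iff_one _).2 ?_)
        simpa using q₀.sub_mem hmem (hvars hv)⟩ : q₀.primeCompl)
      have := Ideal.mem_map_of_mem (algebraMap P T) hvg
      rw [Ideal.map_span, ← Set.range_comp, map_mul, Ideal.unit_mul_mem_iff_mem _ hu] at this
      exact this
    · rintro _ ⟨k, rfl⟩
      exact Ideal.mem_map_of_mem _ (hπh k)
  -- the criterion
  refine formallySmooth_quotient J hJm hJfg fun x hiJ hz => ?_
  let κ := ResidueField T
  rw [hJspan] at hiJ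
  obtain ⟨c, hc⟩ := Ideal.mem_span_range_iff_exists_fun.1 hiJ
  -- coordinates of the differential at the closed point
  let ev : P →+* κ := (algebraMap T κ).comp (algebraMap P T)
  have hev : ∀ p : MvPolynomial (Fin n) R, ev p = ev (C (constantCoeff p)) := fun p => by
    rw [← sub_eq_zero, ← map_sub]
    refine Ideal.Quotient.eq_zero_iff_mem.2 ?_
    rw [← Localization.AtPrime.map_eq_maximalIdeal]
    exact Ideal.mem_map_of_mem _ (hvars ((mem_idealOfVars_iff (p - C (constantCoeff p))).2
      (by rw [map_sub, constantCoeff_C, sub_self])))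
  have hrepr : ∀ (p : MvPolynomial (Fin n) R) (j : Fin n),
      b.repr (D R T (algebraMap P T p)) j = algebraMap P T (pderiv j p) := by
    intro p j
    show ((mvPolynomialBasis R (Fin n)).baseChange T).repr
      ((tensorKaehlerEquivOfFormallyEtale R P T).symm (D R T (algebraMap P T p))) j = _
    erw [tensorKaehlerEquivOfFormallyEtale_symm_D_algebraMap, Module.Basis.baseChange_repr_tmul,
      mvPolynomialBasis_repr_apply]
    rw [Algebra.smul_def, mul_one]
  have hres : ∀ k, algebraMap T κ (algebraMap P T (h k)) = 0 := fun k =>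
    Ideal.Quotient.eq_zero_iff_mem.2 (hJm (Ideal.mem_map_of_mem _ (hπh k)))
  have hsum : ∀ j, ∑ k, algebraMap T κ (c k) * ev (C (E j k)) = 0 := by
    intro j
    have h1 := congrArg (fun w => (b.baseChange κ).repr w j) hz
    simp only [map_zero, Finsupp.coe_zero, Pi.zero_apply, Module.Basis.baseChange_repr_tmul] at h1
    rw [← hc] at h1
    simp only [map_sum, Derivation.leibniz, map_add, map_smul, Finsupp.finsetSum_apply,
      Finsupp.add_apply, Finsupp.smul_apply, hrepr, smul_eq_mul] at h1
    rw [Algebra.smul_def, mul_one, map_sum] at h1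
    simp only [map_add, map_mul, hres, zero_mul, add_zero] at h1
    rw [← h1]
    refine Finset.sum_congr rfl fun k _ => ?_
    rw [← hLh k j, ← hev]
    rfl
  let d : Fin n → T := fun l => ∑ k, c k * algebraMap P T (C (E l k))
  have hd : ∀ l, d l ∈ maximalIdeal T := fun l => by
    rw [← ker_residue (R := T), RingHom.mem_ker]
    exact (map_sum _ _ _).trans ((Finset.sum_congr rfl fun k _ => map_mul _ _ _).trans (hsum l))
  have hx : x = ∑ l, d l * algebraMap P T (h l) :=
    hc.symm.trans (sum_mul_swap c (fun i k => algebraMap P T (C (E i k))) _ fun k =>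
      (congrArg (algebraMap P T) (hEh k)).trans
        ((map_sum _ _ _).trans (Finset.sum_congr rfl fun _ _ => map_mul _ _ _)))
  rw [hx]
  exact Ideal.sum_mem _ fun l _ => Ideal.mul_mem_mul (hd l) (Ideal.mem_map_of_mem _ (hπh l))

end Groth.Agent.SectionSmooth10
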